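import Cfsg.Agent.StabLength.Table.Table

/-!
Groups of derived length six on 64 and 256 vectors (S4070, piece D).
-/

set_option autoImplicit false
set_option linter.style.haveILetI false
set_option linter.unusedSectionVars false
set_option synthInstance.maxSize 2048

universe u

namespace CfsgLib.StabLength.Table

open OddBase
open scoped commutatorElement

variable {V : Type u} [AddCommGroup V] [Finite V] {A : Subgroup (Aut V)}

/-- At most 32 vectors: length at most three. -/
theorem dl_small {n : ℕ} (hV : Nat.card V = 2 ^ n) (hn : n ≤ 5) (hexp : ∀ v : V, 2 • v = 0)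
    (hsol : Group.IsSolvable A) (hCR : CR A) : DL A 3 := by
  have key : ∀ m < 6, Bd 0 m ≤ 3 := by decide
  exact (linOK n V 2 Nat.prime_two hexp hV (show n ≤ 14 by omega) A hsol hCR).mono
    (key n (by omega))

/-- Irreducible of length six: a class two setup over four elements. -/
theorem exists_setup_six {n : ℕ} (h2 : 2 ≤ n) (hn : n ≤ 8) (hV : Nat.card V = 2 ^ n)
    (hexp : ∀ v : V, 2 • v = 0) (hsol : Group.IsSolvable A) (hirr : Irr A) (h5 : ¬ DL A 5) :
    ∃ D : PrimData A, Cent D ∧ D.f = 2 ∧ 2 * D.m = n ∧ Nat.card D.S.U = 9 ∧ Nat.card D.S.A0 = 3 ∧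
      DL D.S.act.range 4 := by
  haveI : Nontrivial V := Finite.one_lt_card_iff_nontrivial.mp
    (hV ▸ Nat.one_lt_pow (by omega) (by norm_num))
  by_cases hBk : Nonempty (Blocks A)
  · obtain ⟨Bk⟩ := hBk
    obtain ⟨N, s, hN, hs, rfl, h2', hDL⟩ := dl_blocks Nat.prime_two hexp hV (show n ≤ 14 by omega) hsol
      hirr Bk (fun m _ => (tables m).1) fun m _ => linOK m
    have key : ∀ N < 5, ∀ s < 5, 2 ≤ N ∧ 2 ≤ s ∧ N * s ≤ 8 → Gd N + Bd 0 s ≤ 5 := by decide
    have hs2 := h2' rfl
    exact absurd (hDL.mono (key N (by nlinarith) s (by nlinarith) ⟨hN, hs2, hn⟩)) h5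
  have hfield : AllFields A := fun B hB hBc => (blocks_or_field hirr hB hBc).resolve_left hBk
  obtain ⟨D, hC⟩ := exists_primData_cent hsol hfield
  obtain ⟨hp, hfm, e, he1, hU, hem, hdvd⟩ := field_facts D Nat.prime_two (by omega) hV
  by_cases he : e = 1
  · rw [he] at hU
    exact absurd ((dl_of_u_one D hC hU).mono (by norm_num)) h5
  have hf := D.hf
  have hef : e * D.f ≤ n :=
    hfm ▸ (mul_comm e D.f).trans_le (Nat.mul_le_mul_left D.f hem)
  have key : ∀ e < 9, ∀ f < 9, 2 ≤ e ∧ 1 ≤ f ∧ e * f ≤ 8 ∧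
      (∀ l ∈ [2, 3, 5, 7], l ∣ e → l ∣ 2 ^ f - 1) → e = 3 ∧ f = 2 := by decide
  obtain ⟨rfl, hf2⟩ := key e (by nlinarith) D.f (by nlinarith) ⟨by omega, hf, by omega, fun l hl hd =>
    hdvd l (by revert hl; simp; rintro (rfl | rfl | rfl | rfl) <;> norm_num) hd⟩
  have hU9 : Nat.card D.S.U = 9 := hU
  have hA0 : Nat.card D.S.A0 = 3 := by
    have h3 : 3 ∣ Nat.card D.S.A0 := D.S.prime_dvd Nat.prime_three (by rw [hU9]; norm_num)
    have h3' : Nat.card D.S.A0 ∣ 3 := by
      have := D.a0_dvd
      rwa [D.hq, hp, hf2] at this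
    exact Nat.dvd_antisymm h3' h3
  refine ⟨D, hC, hf2, by rw [← hfm, hf2], hU9, hA0, ?_⟩
  exact dl_act (l := 3) (i := 2) D hsol Nat.prime_three hU9 (by decide)
    fun W _ _ hexpW hW B hB hBCR => linOK 2 W 3 Nat.prime_three hexpW hW (by decide) B hB hBCR

/-- The order in that case. -/
theorem card_le_of_setup (D : PrimData A) (hf : D.f = 2) (hU : Nat.card D.S.U = 9)
    (hA0 : Nat.card D.S.A0 = 3) : Nat.card A ≤ 2592 := by
  haveI : Fact (Nat.Prime 3) := ⟨Nat.prime_three⟩
  have hd : D.d ≤ 2 := hf ▸ Nat.le_of_dvd D.hf D.hd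
  have hU2 : Nat.card (Additive D.S.U) = 3 ^ 2 := (Nat.card_congr Additive.toMul).trans hU
  have hAut : Nat.card (Aut (Additive D.S.U)) ≤ 48 :=
    card_aut_le (r := 3) (U_elementary D Nat.prime_three (i := 2) hU) hU2
      (by simp [Fin.prod_univ_succ])
  have hR : Nat.card (D.S.act.comp (Subgroup.inclusion D.S.c_le)).range ≤ 48 :=
    (Nat.card_le_card_of_injective _ Subtype.val_injective).trans hAut
  rw [D.card_A, D.S.card_C, D.S.card_E, hU, hA0]
  calc 9 * 3 * _ * D.d ≤ 9 * 3 * 48 * 2 := Nat.mul_le_mul (Nat.mul_le_mul_left _ hR) hd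
    _ = 2592 := by norm_num

/-- A part of the space with few automorphisms. -/
theorem card_range_le {U : AddSubgroup V} (hU : Inv A U) {b : ℕ} (hb : b ≤ 2)
    (hUb : Nat.card U = 2 ^ b) (hexp : ∀ v : V, 2 • v = 0) :
    Nat.card (res A U hU).range ≤ if b ≤ 1 then 1 else 6 := by
  haveI : Fact (Nat.Prime 2) := ⟨Nat.prime_two⟩
  refine (Nat.card_le_card_of_injective _ Subtype.val_injective).trans
    (card_aut_le (exp_sub hexp U) hUb ?_)
  interval_cases b <;> simp [Fin.prod_univ_succ]

/-- On 64 vectors length six forces irreducibility and at most 2592 elements. -/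
theorem six (hV : Nat.card V = 2 ^ 6) (hexp : ∀ v : V, 2 • v = 0) (hsol : Group.IsSolvable A)
    (hCR : CR A) (h5 : ¬ DL A 5) : Irr A ∧ Nat.card A ≤ 2592 := by
  have hirr : Irr A := by
    by_contra h
    obtain ⟨U, X, hU, hX, hs, a, b, hba, hb, hab, hca, hcb⟩ := exists_split Nat.prime_two hV hCR h
    exact h5 ((dl_sum hU hX hs
      (dl_small hca (by omega) (exp_sub hexp U) (solvable_range _ hsol) (hCR.res hU))
      (dl_small hcb (by omega) (exp_sub hexp X) (solvable_range _ hsol) (hCR.res hX))).mono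
        (by norm_num))
  obtain ⟨D, -, hf, -, hU, hA0, -⟩ := exists_setup_six (by norm_num) (by norm_num) hV hexp hsol hirr h5
  exact ⟨hirr, card_le_of_setup D hf hU hA0⟩

/-- On 128 vectors. -/
theorem seven (hV : Nat.card V = 2 ^ 7) (hexp : ∀ v : V, 2 • v = 0) (hsol : Group.IsSolvable A)
    (hCR : CR A) (h5 : ¬ DL A 5) : Nat.card A ≤ 2592 := by
  by_cases hirr : Irr A
  · obtain ⟨D, -, -, h, -⟩ := exists_setup_six (by norm_num) (by norm_num) hV hexp hsol hirr h5
    omega
  obtain ⟨U, X, hU, hX, hs, a, b, hba, hb, hab, hca, hcb⟩ := exists_split Nat.prime_two hV hCR hirr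
  have hX3 := dl_small hcb (by omega) (exp_sub hexp X) (solvable_range _ hsol) (hCR.res hX)
  by_cases hU5 : DL (res A U hU).range 5
  · exact absurd (dl_sum hU hX hs hU5 (hX3.mono (by norm_num))) h5
  have ha6 : a = 6 := by
    by_contra h
    exact hU5 ((dl_small hca (by omega) (exp_sub hexp U) (solvable_range _ hsol) (hCR.res hU)).mono
      (by norm_num))
  subst ha6
  obtain rfl : b = 1 := by omega
  calc Nat.card A ≤ _ := card_dvd_sum hU hX hs
    _ ≤ 2592 * 1 := Nat.mul_le_mul
        (six hca (exp_sub hexp U) (solvable_range _ hsol) (hCR.res hU) hU5).2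
        (card_range_le hX (by norm_num) hcb hexp)
    _ = 2592 := by norm_num

/-- On 256 vectors length six forces a small group. -/
theorem twoEight : TwoEight.{u} := by
  intro W _ _ hcard hexp A hsol hCR h5
  have hV : Nat.card W = 2 ^ 8 := hcard
  by_cases hirr : Irr A
  · obtain ⟨D, -, hf, -, hU, hA0, -⟩ := exists_setup_six (by norm_num) (by norm_num) hV hexp hsol hirr h5
    exact (card_le_of_setup D hf hU hA0).trans (by norm_num)
  obtain ⟨U, X, hU, hX, hs, a, b, hba, hb, hab, hca, hcb⟩ := exists_split Nat.prime_two hV hCR hirr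
  have hX3 := dl_small hcb (by omega) (exp_sub hexp X) (solvable_range _ hsol) (hCR.res hX)
  by_cases hU5 : DL (res A U hU).range 5
  · exact absurd (dl_sum hU hX hs hU5 (hX3.mono (by norm_num))) h5
  have ha6 : 6 ≤ a := by
    by_contra h
    exact hU5 ((dl_small hca (by omega) (exp_sub hexp U) (solvable_range _ hsol) (hCR.res hU)).mono
      (by norm_num))
  refine (card_dvd_sum hU hX hs).trans ?_
  have hle : Nat.card (res A U hU).range ≤ 2592 := by
    obtain rfl | rfl : a = 6 ∨ a = 7 := by omega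
    · exact (six hca (exp_sub hexp U) (solvable_range _ hsol) (hCR.res hU) hU5).2
    · exact seven hca (exp_sub hexp U) (solvable_range _ hsol) (hCR.res hU) hU5
  calc Nat.card (res A U hU).range * Nat.card (res A X hX).range
      ≤ 2592 * 6 := Nat.mul_le_mul hle
        ((card_range_le hX (by omega) hcb hexp).trans (by split_ifs <;> norm_num))
    _ = 15552 := by norm_num

/-- The class two subgroup of order 27 is irreducible on 64 vectors. -/
theorem irr_E (hV : Nat.card V = 2 ^ 6) (hexp : ∀ v : V, 2 • v = 0) (D : PrimData A)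
    (hE : Nat.card D.S.E = 27) : Irr D.S.E := by
  intro U hU
  by_contra hne
  push Not at hne
  obtain ⟨hb, ht⟩ := hne
  obtain ⟨u, hu, hu0⟩ : ∃ u ∈ U, u ≠ 0 := by
    by_contra h
    push Not at h
    exact hb ((AddSubgroup.eq_bot_iff_forall _).2 h)
  set ρ := res D.S.E U hU
  have hfix : ∀ c : D.S.E, (c : Aut V) ∈ D.S.A0 → ρ c = 1 → c = 1 := fun c hc h => by
    by_contra hne
    exact hu0 (D.fpf c hc (fun e => hne (Subtype.ext e)) u ((res_eq_one_iff hU c).mp h u hu))
  have hinj : Function.Injective ρ := by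
    rw [injective_iff_map_eq_one]
    intro a ha
    refine hfix a (D.S.dle a (D.S.e_le a.2) fun y hy => ?_) ha
    have h1 := hfix ⁅a, ⟨y, hy⟩⁆ (D.S.comm a a.2 y hy)
      (by rw [map_commutatorElement, ha, commutatorElement_one_left])
    exact commutatorElement_eq_one_iff_mul_comm.mp (congrArg Subtype.val h1)
  haveI : Fact (Nat.Prime 2) := ⟨Nat.prime_two⟩
  obtain ⟨a, hale, ha⟩ := card_sub Nat.prime_two hV U
  have ha6 : a < 6 := by
    by_contra h
    exact ht (AddSubgroup.eq_top_of_card_eq U (by rw [ha, hV, show a = 6 by omega]))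
  have h27 := (hE ▸ Subgroup.card_dvd_of_injective ρ hinj).trans
    (card_aut_dvd (exp_sub hexp U) ha)
  interval_cases a <;> simp [Fin.prod_univ_succ] at h27

/-- On 64 vectors a subgroup of length six is irreducible. -/
theorem sixtyFour : SixtyFour.{u} := by
  intro W _ _ hcard hexp A hsol hCR T hT hT5
  have hV : Nat.card W = 2 ^ 6 := hcard
  have h5 : ¬ DL A 5 := fun h => hT5 (h.of_le hT)
  obtain ⟨D, hC, hf, -, hU, hA0, h4⟩ := exists_setup_six (by norm_num) (by norm_num) hV hexp hsol
    (six hV hexp hsol hCR h5).1 h5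
  have hE : Nat.card D.S.E = 27 := by rw [D.S.card_E, hU, hA0]
  set X := (derivedSeries T 4).map T.subtype with hX
  have hXE : X ≤ D.S.E := derived_le_E D hC (by norm_num) h4 hT
  have hX27 : Nat.card X = 27 := by
    haveI : Fact (Nat.Prime 3) := ⟨Nat.prime_three⟩
    obtain ⟨j, hj, hjX⟩ := (Nat.dvd_prime_pow Nat.prime_three (m := 3)).1
      (show Nat.card X ∣ 3 ^ 3 from (show (3 : ℕ) ^ 3 = 27 by norm_num) ▸ hE ▸
        Subgroup.card_dvd_of_le hXE)
    by_contra hne
    have hj2 : j ≤ 2 := by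
      by_contra h
      exact hne (by rw [hjX, show j = 3 by omega]; norm_num)
    refine hT5 (dl_of_derived_le (a := 4) (b := 1) le_rfl (DL.of_comm fun a b => ?_))
    have hcomm : ∀ x y : X, x * y = y * x := by
      intro x y
      interval_cases j
      · haveI : Subsingleton X := (Nat.card_eq_one_iff_unique.mp (by simpa using hjX)).1
        exact Subsingleton.elim _ _
      · haveI : IsCyclic X := isCyclic_of_prime_card (p := 3) (by simpa using hjX)
        obtain ⟨g, hg⟩ := IsCyclic.exists_generator (α := X)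
        obtain ⟨i, rfl⟩ := Subgroup.mem_zpowers_iff.1 (hg x)
        obtain ⟨k, rfl⟩ := Subgroup.mem_zpowers_iff.1 (hg y)
        exact zpow_mul_comm g i k
      · exact IsPGroup.commutative_of_card_eq_prime_sq hjX x y
    exact Subtype.ext (Subtype.ext (congrArg (fun z : X => (z : Aut W))
      (hcomm ⟨_, Subgroup.mem_map_of_mem _ a.2⟩ ⟨_, Subgroup.mem_map_of_mem _ b.2⟩)))
  have hEX : X = D.S.E := Subgroup.eq_of_le_of_card_ge hXE (by rw [hE, hX27])
  intro U hU
  refine irr_E hV hexp D hE U fun a ha => hU a ?_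
  rw [← hEX] at ha
  exact Subgroup.map_subtype_le _ ha

end CfsgLib.StabLength.Table
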