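import Cfsg.Agent.StabLength.Table.Prelim
import Cfsg.Agent.OddBase.Gluck
import Cfsg.Agent.Solvable.Basics

/-!
The table of transitive soluble permutation groups (S4070, piece D).
-/

set_option autoImplicit false
set_option linter.style.haveILetI false
set_option linter.unusedSectionVars false

universe u

namespace CfsgLib.StabLength.Table

open OddBase Equiv
open scoped Pointwise

variable {Ω : Type u} [Finite Ω]

/-- A transitive group with a non-trivial system of blocks. -/
theorem dl_imprimitive (S : Subgroup (Perm Ω)) (hsol : Group.IsSolvable S)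
    [MulAction.IsPretransitive S Ω] {B : Set Ω} (hB : MulAction.IsBlock S B)
    (hns : ¬ B.Subsingleton) (huniv : B ≠ Set.univ) (hN : Nat.card Ω ≤ 14)
    (ih : ∀ m < Nat.card Ω, PermOK.{u} m) :
    ∃ a b : ℕ, 2 ≤ a ∧ 2 ≤ b ∧ a * b = Nat.card Ω ∧ DL S (Gd a + Gd b) := by
  classical
  haveI := hsol
  haveI := Fintype.ofFinite Ω
  obtain ⟨b0, hb0, b1, hb1, hb01⟩ := Set.not_subsingleton_iff.mp hns
  let Q : Type u := MulAction.orbit S B
  haveI : Fintype Q := Fintype.ofFinite Q
  have hex : ∀ x : Ω, ∃ j : Q, x ∈ (j : Set Ω) := by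
    intro x
    obtain ⟨g, hg⟩ := MulAction.exists_smul_eq S b0 x
    exact ⟨⟨g • B, g, rfl⟩, Set.mem_smul_set.mpr ⟨b0, hb0, hg⟩⟩
  have huniq : ∀ (x : Ω) (j k : Q), x ∈ (j : Set Ω) → x ∈ (k : Set Ω) → j = k := by
    rintro x ⟨_, g, rfl⟩ ⟨_, g', rfl⟩ hj hk
    by_contra hne
    exact Set.disjoint_left.mp (hB fun e => hne (Subtype.ext e)) hj hk
  choose π hπmem using hex
  let φ : S →* Perm Q := MulAction.toPermHom S Q
  have hπ : ∀ (g : S) x, π ((g : Perm Ω) x) = φ g (π x) := fun g x =>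
    huniq _ _ _ (hπmem _) (Set.mem_smul_set.mpr ⟨x, hπmem x, rfl⟩)
  let j0 : Q := ⟨B, MulAction.mem_orbit_self B⟩
  have hfib : ∀ x, π x = j0 ↔ x ∈ B := fun x =>
    ⟨fun h => by have := hπmem x; rw [h] at this; exact this, fun h => huniq x _ j0 (hπmem x) h⟩
  have hsec : ∀ j : Q, ∃ g : S, φ g j0 = j := fun j => by
    obtain ⟨g, hg⟩ := j.2
    exact ⟨g, Subtype.ext hg⟩
  choose sec hsec using hsec
  set a := Nat.card {x // π x = j0} with ha_def
  set b := Nat.card Q with hb_def
  have hfibcard : ∀ j, Nat.card {x // π x = j} = a := fun j => by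
    refine (Nat.card_congr (Equiv.subtypeEquiv (sec j : Perm Ω) fun x => ?_)).symm
    rw [hπ]
    exact ⟨fun h => by rw [h, hsec], fun h => (φ (sec j)).injective (h.trans (hsec j).symm)⟩
  have hab : a * b = Nat.card Ω := by
    rw [← Nat.card_congr (Equiv.sigmaFiberEquiv π), Nat.card_sigma,
      Finset.sum_congr rfl (fun j _ => hfibcard j), Finset.sum_const, Finset.card_univ, smul_eq_mul,
      hb_def, Nat.card_eq_fintype_card, mul_comm]
  have ha2 : 2 ≤ a := by
    haveI : Nontrivial {x // π x = j0} :=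
      ⟨⟨⟨b0, (hfib b0).2 hb0⟩, ⟨b1, (hfib b1).2 hb1⟩, fun e => hb01 (congrArg Subtype.val e)⟩⟩
    exact Finite.one_lt_card
  obtain ⟨z, hz⟩ := (Set.ne_univ_iff_exists_notMem B).mp huniv
  have hb2 : 2 ≤ b := by
    haveI : Nontrivial Q := ⟨⟨π z, j0, fun e => hz ((hfib z).1 e)⟩⟩
    exact Finite.one_lt_card
  have halt : a < Nat.card Ω := by
    rw [← hab]; exact lt_mul_of_one_lt_right (by omega) (by omega)
  have hblt : b < Nat.card Ω := by
    rw [← hab]; exact lt_mul_of_one_lt_left (by omega) (by omega)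
  -- the action on the blocks
  haveI : MulAction.IsPretransitive φ.range Q := ⟨fun j k => ⟨⟨φ (sec k * (sec j)⁻¹), _, rfl⟩, by
    show φ (sec k * (sec j)⁻¹) j = k
    rw [map_mul, map_inv, Perm.mul_apply, Perm.inv_eq_iff_eq.2 (hsec j).symm, hsec]⟩⟩
  have hQ : DL φ.range (Gd b) := ih b hblt Q rfl (by omega) φ.range
    (OddBase.solvable_range _ hsol) inferInstance
  -- the kernel on each block
  let T : Q → Subgroup (Perm Ω) := fun j => (MulAction.stabilizer S j).map S.subtype
  have hT : ∀ j, ∀ t ∈ T j, ∀ x, (π (t x) = j) ↔ π x = j := by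
    rintro j _ ⟨t, ht, rfl⟩ x
    rw [Subgroup.coe_subtype, hπ]
    have h0 : φ t j = j := ht
    exact ⟨fun h => (φ t).injective (h.trans h0.symm), fun h => by rw [h, h0]⟩
  let R := fun j => OddBase.resPerm (T j) (fun x => π x = j) (hT j)
  have hR : ∀ j, DL (R j).range (Gd a) := fun j => by
    haveI : MulAction.IsPretransitive (R j).range {x // π x = j} := ⟨fun x y => by
      obtain ⟨g, hg⟩ := MulAction.exists_smul_eq S (x : Ω) y
      have hgj : φ g j = j := by
        have := hπ g x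
        rw [show (g : Perm Ω) x = y from hg, y.2, x.2] at this
        exact this.symm
      exact ⟨⟨R j ⟨g, g, hgj, rfl⟩, _, rfl⟩, Subtype.ext hg⟩⟩
    refine ih a halt _ (hfibcard j) (by omega) (R j).range (OddBase.solvable_range _
      (OddBase.subgroup_solvable_map _ _ ?_)) inferInstance
    exact Group.isSolvable_of_isSolvable_injective (MulAction.stabilizer S j).subtype_injective
  have hmem : ∀ (g : φ.ker) (j : Q), ((g : S) : Perm Ω) ∈ T j := fun g j =>
    ⟨g, show φ (g : S) j = j by rw [MonoidHom.mem_ker.1 g.2]; rfl, rfl⟩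
  let Φ : φ.ker →* ((j : Q) → (R j).range) :=
    { toFun := fun g j => ⟨R j ⟨_, hmem g j⟩, _, rfl⟩
      map_one' := funext fun j => Subtype.ext (map_one (R j))
      map_mul' := fun g h => funext fun j => Subtype.ext
        (map_mul (R j) ⟨_, hmem g j⟩ ⟨_, hmem h j⟩) }
  have hΦ : Function.Injective Φ := fun g h e => by
    refine Subtype.ext (Subtype.ext (Perm.ext fun x => ?_))
    exact congrArg (fun p : (R (π x)).range => (((p : Perm _) ⟨x, rfl⟩ : {y // π y = π x}) : Ω))
      (congrFun e (π x))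
  refine ⟨a, b, ha2, hb2, hab, ?_⟩
  have hker : DL φ.ker (Gd a) := (DL.pi hR).of_injective Φ hΦ
  have := DL.of_ker φ.rangeRestrict hQ (by rw [MonoidHom.ker_rangeRestrict]; exact hker)
  rwa [add_comm] at this

/-- A primitive soluble group is affine. -/
theorem dl_primitive (S : Subgroup (Perm Ω)) (hsol : Group.IsSolvable S) [Nontrivial S]
    [MulAction.IsPretransitive S Ω]
    (hprim : ∀ B : Set Ω, MulAction.IsBlock S B → B.Subsingleton ∨ B = Set.univ)
    (ih : ∀ m < Nat.card Ω, LinOK.{u} m) :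
    ∃ r k : ℕ, r.Prime ∧ 1 ≤ k ∧ r ^ k = Nat.card Ω ∧
      (k ≤ lim (key r) → DL S (Bd (key r) k + 1)) := by
  classical
  haveI := hsol
  haveI := Fintype.ofFinite Ω
  have htop : (⊤ : Subgroup S) ≠ ⊥ := top_ne_bot
  haveI : Group.IsSolvable (⊤ : Subgroup S) :=
    Group.isSolvable_of_isSolvable_injective (Subgroup.subtype_injective (⊤ : Subgroup S))
  obtain ⟨N, hNn, hN0, -, hNc, -, r, hr, hexp, -⟩ :=
    CfsgLib.Solvable.exists_normal_elementary_le (N := (⊤ : Subgroup S)) htop inferInstance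
  haveI := Fact.mk hr
  have hcomm : ∀ a ∈ N, ∀ b ∈ N, a * b = b * a := fun a ha b hb =>
    congrArg Subtype.val (hNc.is_comm.comm ⟨a, ha⟩ ⟨b, hb⟩)
  -- a normal subgroup other than `1` is transitive
  have htrans : ∀ M : Subgroup S, M.Normal → M ≠ ⊥ → ∀ x y : Ω, ∃ a ∈ M, (a : Perm Ω) x = y := by
    intro M hMn hM0 x y
    rcases hprim _ (MulAction.IsBlock.orbit_of_normal (N := M) x) with hsub | huniv
    · exfalso
      refine hM0 (Subgroup.eq_bot_iff_forall _ |>.mpr fun a ha => Subtype.ext (Perm.ext fun z => ?_))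
      obtain ⟨g, rfl⟩ := MulAction.exists_smul_eq S x z
      have h1 := hsub (show ((⟨g⁻¹ * a * g, by simpa using hMn.conj_mem a ha g⁻¹⟩ : M) • x) ∈
        MulAction.orbit M x from ⟨_, rfl⟩) (MulAction.mem_orbit_self x)
      change (g⁻¹ * a * g) • x = x at h1
      show a • g • x = g • x
      rw [mul_smul, mul_smul, inv_smul_eq_iff] at h1
      exact h1
    · obtain ⟨⟨a, ha⟩, hay⟩ : y ∈ MulAction.orbit M x := by rw [huniv]; trivial
      exact ⟨a, ha, hay⟩
  have hreg : ∀ a ∈ N, ∀ x : Ω, (a : Perm Ω) x = x → a = 1 := by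
    intro a ha x hax
    refine Subtype.ext (Perm.ext fun z => ?_)
    obtain ⟨b, hb, rfl⟩ := htrans N hNn hN0 x z
    show (a : Perm Ω) ((b : Perm Ω) x) = _
    rw [← Perm.mul_apply, ← Subgroup.coe_mul, hcomm a ha b hb, Subgroup.coe_mul, Perm.mul_apply, hax]
    rfl
  obtain ⟨x0⟩ : Nonempty Ω := by
    obtain ⟨g, hg⟩ := exists_ne (1 : S)
    by_contra h
    exact hg (Subtype.ext (Perm.ext fun x => (h ⟨x⟩).elim))
  have hbij : Function.Bijective fun a : N => ((a : S) : Perm Ω) x0 := by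
    refine ⟨fun a a' h => ?_, fun y => by
      obtain ⟨a, ha, h⟩ := htrans N hNn hN0 x0 y; exact ⟨⟨a, ha⟩, h⟩⟩
    have h' : ((a : S) : Perm Ω) x0 = ((a' : S) : Perm Ω) x0 := h
    have := hreg ((a' : S)⁻¹ * a) (N.mul_mem (N.inv_mem a'.2) a.2) x0 (by simp [h'])
    exact (Subtype.ext (inv_mul_eq_one.mp this)).symm
  have hcardN : Nat.card N = Nat.card Ω := Nat.card_eq_of_bijective _ hbij
  obtain ⟨k, hk⟩ : ∃ k, Nat.card N = r ^ k := IsPGroup.iff_card.1 (fun g => ⟨1, by
    rw [pow_one]; exact Subtype.ext (hexp _ g.2)⟩ : IsPGroup r N)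
  haveI : Nontrivial N := (Subgroup.nontrivial_iff_ne_bot N).mpr hN0
  have hk1 : 1 ≤ k := by
    by_contra h
    have h1 := Finite.one_lt_card (α := N)
    rw [hk, show k = 0 by omega, pow_zero] at h1
    omega
  refine ⟨r, k, hr, hk1, hk.symm.trans hcardN, fun hlim => ?_⟩
  letI instC : CommGroup N := { (inferInstance : Group N) with
    mul_comm := fun a b => Subtype.ext (hcomm a a.2 b b.2) }
  -- conjugation
  let cf : S → Aut (Additive N) := fun g =>
    { val := MonoidHom.toAdditive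
        { toFun := fun a : N => (⟨g * a * g⁻¹, hNn.conj_mem _ a.2 g⟩ : N)
          map_one' := Subtype.ext (by simp)
          map_mul' := fun a b => Subtype.ext (by simp [mul_assoc]) }
      inv := MonoidHom.toAdditive
        { toFun := fun a : N => (⟨g⁻¹ * a * g, by simpa using hNn.conj_mem _ a.2 g⁻¹⟩ : N)
          map_one' := Subtype.ext (by simp)
          map_mul' := fun a b => Subtype.ext (by simp [mul_assoc]) }
      val_inv := DFunLike.ext _ _ fun a => Subtype.ext (by
        show g * (g⁻¹ * ((Additive.toMul a : N) : S) * g) * g⁻¹ = ((Additive.toMul a : N) : S); group)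
      inv_val := DFunLike.ext _ _ fun a => Subtype.ext (by
        show g⁻¹ * (g * ((Additive.toMul a : N) : S) * g⁻¹) * g = ((Additive.toMul a : N) : S); group) }
  let Θ : S →* Aut (Additive N) := MonoidHom.mk' cf fun g h => aut_ext fun a => Subtype.ext (by
    show g * h * ((Additive.toMul a : N) : S) * (g * h)⁻¹ = g * (h * ((Additive.toMul a : N) : S) * h⁻¹) * g⁻¹
    group)
  have hker : ∀ g ∈ Θ.ker, g ∈ N := by
    intro g hg
    have hc : ∀ a ∈ N, g * a = a * g := fun a ha => by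
      have h1 := congrArg (fun e : Aut (Additive N) => ((Additive.toMul (e • Additive.ofMul
        (⟨a, ha⟩ : N)) : N) : S)) (MonoidHom.mem_ker.1 hg)
      change g * a * g⁻¹ = a at h1
      exact mul_inv_eq_iff_eq_mul.1 h1
    obtain ⟨a, ha, hax⟩ := htrans N hNn hN0 x0 ((g : Perm Ω) x0)
    suffices g = a from this ▸ ha
    refine Subtype.ext (Perm.ext fun y => ?_)
    obtain ⟨b, hb, rfl⟩ := htrans N hNn hN0 x0 y
    rw [← Perm.mul_apply, ← Perm.mul_apply, ← Subgroup.coe_mul, ← Subgroup.coe_mul, hc b hb,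
      hcomm a ha b hb, Subgroup.coe_mul, Subgroup.coe_mul, Perm.mul_apply, Perm.mul_apply, hax]
  have hirr : Irr Θ.range := by
    intro X hX
    by_cases hX0 : X = ⊥
    · exact Or.inl hX0
    refine Or.inr ?_
    let M : Subgroup S := (AddSubgroup.toSubgroup' X).map N.subtype
    have hMn : M.Normal := ⟨fun m hm g => by
      obtain ⟨a, ha, rfl⟩ := hm
      exact ⟨_, hX (Θ g) ⟨g, rfl⟩ (Additive.ofMul a) ha, rfl⟩⟩
    obtain ⟨x, hx, hx0⟩ : ∃ x ∈ X, x ≠ 0 := by
      by_contra h
      push Not at h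
      exact hX0 ((AddSubgroup.eq_bot_iff_forall _).2 h)
    have hM0 : M ≠ ⊥ := fun h => hx0 (Additive.toMul.injective (Subtype.ext
      ((Subgroup.eq_bot_iff_forall _).1 h _ ⟨Additive.toMul x, hx, rfl⟩)))
    rw [eq_top_iff]
    intro v _
    obtain ⟨_, ⟨c, hc, rfl⟩, hmx⟩ := htrans M hMn hM0 x0 ((((Additive.toMul v : N) : S) : Perm Ω) x0)
    have : c = Additive.toMul v := hbij.1 hmx
    rw [this] at hc
    exact hc
  have hklt : k < Nat.card Ω := by
    rw [← hcardN, hk]; exact Nat.lt_pow_self hr.one_lt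
  have hexp' : ∀ v : Additive N, r • v = 0 := fun v =>
    Additive.toMul.injective (Subtype.ext (hexp _ (Additive.toMul v).2))
  have hV : Nat.card (Additive N) = r ^ k := (Nat.card_congr Additive.toMul).trans hk
  have hq := ih k hklt (Additive N) r hr hexp' hV hlim Θ.range (OddBase.solvable_range _ hsol)
    (CR.of_irr hirr)
  refine DL.of_ker Θ.rangeRestrict hq ?_
  rw [MonoidHom.ker_rangeRestrict]
  exact DL.of_comm fun a b => Subtype.ext (hcomm _ (hker _ a.2) _ (hker _ b.2))

/-- One step of the table for transitive groups. -/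
theorem permOK_step (N : ℕ) (ihP : ∀ m < N, PermOK.{u} m) (ihL : ∀ m < N, LinOK.{u} m) :
    PermOK.{u} N := by
  intro Ω _ hΩ hN S hsol htr
  subst hΩ
  rcases subsingleton_or_nontrivial S with hS | hS
  · exact DL.of_subsingleton _
  by_cases hprim : ∀ B : Set Ω, MulAction.IsBlock S B → B.Subsingleton ∨ B = Set.univ
  · obtain ⟨r, k, hr, hk, hrk, h⟩ := dl_primitive S hsol hprim ihL
    have hr2 := hr.two_le
    have key2 : ∀ r < 15, ∀ k < 4, 2 ≤ r ∧ 1 ≤ k ∧ r ^ k ≤ 14 →
        k ≤ lim (key r) ∧ Bd (key r) k + 1 ≤ Gd (r ^ k) := by decide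
    have hk4 : k < 4 := by
      by_contra hk4
      have := (Nat.pow_le_pow_right (by norm_num : 0 < 2) (by omega : 4 ≤ k)).trans
        (Nat.pow_le_pow_left hr2 k)
      omega
    obtain ⟨h1, h2⟩ := key2 r (by
      have := Nat.le_self_pow (by omega : k ≠ 0) r; omega) k hk4 ⟨hr2, hk, by omega⟩
    rw [← hrk]
    exact (h h1).mono h2
  · push Not at hprim
    obtain ⟨B, hB, hns, huniv⟩ := hprim
    obtain ⟨a, b, ha, hb, hab, h⟩ := dl_imprimitive S hsol hB (Set.not_subsingleton_iff.mpr hns) huniv hN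
      ihP
    have key2 : ∀ a < 8, ∀ b < 8, 2 ≤ a ∧ 2 ≤ b ∧ a * b ≤ 14 → Gd a + Gd b ≤ Gd (a * b) := by decide
    rw [← hab]
    exact h.mono (key2 a (by nlinarith) b (by nlinarith) ⟨ha, hb, by omega⟩)

end CfsgLib.StabLength.Table
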