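import Cfsg.Agent.StabLength.Defs
import Cfsg.Agent.OddBase.Blocks
import Mathlib.Algebra.Module.ZMod
import Mathlib.LinearAlgebra.FreeModule.Finite.Basic
import Mathlib.LinearAlgebra.Matrix.GeneralLinearGroup.Card
import Mathlib.LinearAlgebra.Matrix.ToLin
import Mathlib.GroupTheory.SpecificGroups.Cyclic

/-!
Numbers for the table of derived lengths and general lemmas (S4070, piece D).
-/

set_option autoImplicit false
set_option linter.style.haveILetI false
set_option linter.unusedSectionVars false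

universe u

namespace CfsgLib.StabLength.Table

open OddBase Subgroup

/-- The three columns: `r = 2`, `r = 3`, other primes. -/
def key (r : ℕ) : ℕ := if r = 2 then 0 else if r = 3 then 1 else 2

/-- The largest dimension in each column. -/
def lim : ℕ → ℕ
  | 0 => 14
  | 1 => 8
  | _ => 4

/-- The bounds. -/
def Bd : ℕ → ℕ → ℕ
  | 0, n => [0, 0, 2, 2, 3, 3, 6, 6, 6, 6, 6, 6, 7, 7, 7].getD n 0
  | 1, n => [0, 1, 4, 4, 5, 5, 6, 6, 8].getD n 0
  | _, n => [0, 1, 4, 6, 6].getD n 0

/-- The bounds for transitive groups. -/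
def Gd (n : ℕ) : ℕ := [0, 0, 1, 2, 3, 2, 3, 2, 4, 5, 3, 2, 5, 2, 3].getD n 0

theorem key_cases (r : ℕ) : key r < 3 := by unfold key; split_ifs <;> norm_num

theorem lim_le (r : ℕ) : lim (key r) ≤ 14 := by
  unfold key; split_ifs <;> norm_num [lim]

/-- The table at dimension `n`. -/
def LinOK (n : ℕ) : Prop :=
  ∀ (W : Type u) [AddCommGroup W] [Finite W] (r : ℕ), r.Prime → (∀ w : W, r • w = 0) →
    Nat.card W = r ^ n → n ≤ lim (key r) → ∀ A : Subgroup (Aut W), Group.IsSolvable A → CR A →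
      DL A (Bd (key r) n)

/-- The table for transitive groups on `n` points. -/
def PermOK (n : ℕ) : Prop :=
  ∀ (Ω : Type u) [Finite Ω], Nat.card Ω = n → n ≤ 14 → ∀ S : Subgroup (Equiv.Perm Ω),
    Group.IsSolvable S → MulAction.IsPretransitive S Ω → DL S (Gd n)

variable {V : Type u} [AddCommGroup V]

theorem exp_sub {r : ℕ} (hexp : ∀ v : V, r • v = 0) (U : AddSubgroup V) : ∀ u : U, r • u = 0 :=
  fun u => Subtype.ext (by rw [AddSubgroup.coe_nsmul, hexp]; rfl)

theorem card_sub [Finite V] {r n : ℕ} (hr : r.Prime) (hV : Nat.card V = r ^ n) (U : AddSubgroup V) :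
    ∃ a ≤ n, Nat.card U = r ^ a :=
  (Nat.dvd_prime_pow hr).1 (hV ▸ U.card_addSubgroup_dvd_card)

/-- A trivial group has trivial automorphism group. -/
theorem eq_one_of_card_le_two [Finite V] (h : Nat.card V ≤ 2) (a : Aut V) : a = 1 := by
  classical
  haveI := Fintype.ofFinite V
  refine aut_ext fun v => ?_
  rw [one_smul]
  by_contra hne
  have hv : v ≠ 0 := fun e => hne (by rw [e, smul_zero])
  have hav : a • v ≠ 0 := fun e => hv (MulAction.injective a (e.trans (smul_zero a).symm))
  rw [Nat.card_eq_fintype_card] at h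
  have h3 : ({0, v, a • v} : Finset V).card = 3 := Finset.card_eq_three.2
    ⟨0, v, a • v, Ne.symm hv, Ne.symm hav, Ne.symm hne, rfl⟩
  have := Finset.card_le_univ ({0, v, a • v} : Finset V)
  omega

/-- Automorphisms of a group of prime order commute. -/
theorem comm_of_card_prime [Finite V] {r : ℕ} (hr : r.Prime) (hV : Nat.card V = r) (a b : Aut V) :
    a * b = b * a := by
  haveI := Fact.mk hr
  haveI : IsAddCyclic V := isAddCyclic_of_prime_card hV
  obtain ⟨g, hg⟩ := IsAddCyclic.exists_generator (α := V)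
  obtain ⟨i, hi⟩ := AddSubgroup.mem_zmultiples_iff.1 (hg (a • g))
  obtain ⟨j, hj⟩ := AddSubgroup.mem_zmultiples_iff.1 (hg (b • g))
  refine aut_ext fun v => ?_
  obtain ⟨k, rfl⟩ := AddSubgroup.mem_zmultiples_iff.1 (hg v)
  have hz : ∀ (c : Aut V) (l : ℤ) (x : V), c • (l • x) = l • (c • x) := fun c l x =>
    map_zsmul (DistribSMul.toAddMonoidHom V c) l x
  simp only [mul_smul, hz, ← hi, ← hj]
  rw [smul_comm i j g]

/-- The automorphism group of a vector space over a prime field lies in `GL`. -/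
theorem card_aut_dvd' [Finite V] {r n : ℕ} [Fact r.Prime] [Module (ZMod r) V]
    (hV : Nat.card V = r ^ n) : Nat.card (Aut V) ∣ ∏ i : Fin n, (r ^ n - r ^ (i : ℕ)) := by
  classical
  haveI : Module.Finite (ZMod r) V := Module.Finite.of_finite
  have hn : Module.finrank (ZMod r) V = n := by
    have h := Module.natCard_eq_pow_finrank (K := ZMod r) (V := V)
    rw [Nat.card_zmod, hV] at h
    exact (Nat.pow_right_injective (Fact.out : r.Prime).two_le h).symm
  let L : Aut V → V →ₗ[ZMod r] V := fun a =>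
    { toFun := fun v => a • v
      map_add' := fun v w => smul_add a v w
      map_smul' := fun c v => ZMod.map_smul (DistribSMul.toAddMonoidHom V a) c v }
  let b := Module.finBasisOfFinrankEq (ZMod r) V hn
  let g : Aut V →* Matrix (Fin n) (Fin n) (ZMod r) :=
    { toFun := fun a => LinearMap.toMatrix b b (L a)
      map_one' := by
        rw [← LinearMap.toMatrix_id b]
        exact congrArg _ (LinearMap.ext fun v => one_smul _ v)
      map_mul' := fun x y => by
        rw [← LinearMap.toMatrix_comp b b b]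
        exact congrArg _ (LinearMap.ext fun v => mul_smul x y v) }
  let f : Aut V →* GL (Fin n) (ZMod r) := g.toHomUnits
  have hf : Function.Injective f := fun x y h => aut_ext fun v =>
    LinearMap.congr_fun ((LinearMap.toMatrix b b).injective (congrArg Units.val h)) v
  have h := Subgroup.card_dvd_of_injective f hf
  rwa [Matrix.card_GL_field, ZMod.card] at h

/-- The automorphism group of an elementary abelian group lies in `GL`. -/
theorem card_aut_dvd [Finite V] {r n : ℕ} [Fact r.Prime] (hexp : ∀ v : V, r • v = 0)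
    (hV : Nat.card V = r ^ n) : Nat.card (Aut V) ∣ ∏ i : Fin n, (r ^ n - r ^ (i : ℕ)) :=
  @card_aut_dvd' V _ _ r n _ (AddCommGroup.zmodModule hexp) hV

/-- The order bound. -/
theorem card_aut_le [Finite V] {r n : ℕ} [Fact r.Prime] (hexp : ∀ v : V, r • v = 0)
    (hV : Nat.card V = r ^ n) {c : ℕ} (hc : ∏ i : Fin n, (r ^ n - r ^ (i : ℕ)) ≤ c) :
    Nat.card (Aut V) ≤ c := by
  refine le_trans (Nat.le_of_dvd (Finset.prod_pos fun i _ => ?_) (card_aut_dvd hexp hV)) hc
  have := Nat.pow_lt_pow_right (Fact.out : r.Prime).one_lt i.2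
  omega

/-- A commutator of a group acting on a cyclic normal subgroup centralises it. -/
theorem commutator_centralises {G : Type u} [Group G] {A A0 : Subgroup G}
    (hn : ∀ g ∈ A, ∀ a ∈ A0, g * a * g⁻¹ ∈ A0) (hc : IsCyclic A0) {g h : G} (hg : g ∈ A)
    (hh : h ∈ A) : g * h * g⁻¹ * h⁻¹ ∈ centralizer (A0 : Set G) := by
  haveI := hc
  let c : A → (A0 →* A0) := fun x =>
    { toFun := fun a => ⟨x * a * (x : G)⁻¹, hn x x.2 a a.2⟩
      map_one' := Subtype.ext (by simp)
      map_mul' := fun a b => Subtype.ext (by simp [mul_assoc]) }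
  have hcomm : ∀ x y : A, ∀ a : A0, c x (c y a) = c y (c x a) := by
    intro x y a
    obtain ⟨i, hi⟩ := MonoidHom.map_cyclic (c x)
    obtain ⟨j, hj⟩ := MonoidHom.map_cyclic (c y)
    rw [hi, hj, hj, hi, ← _root_.zpow_mul, ← _root_.zpow_mul, mul_comm]
  have hconj : ∀ a ∈ A0, g * h * a * h⁻¹ * g⁻¹ = h * g * a * g⁻¹ * h⁻¹ := fun a ha => by
    have := congrArg Subtype.val (hcomm ⟨g, hg⟩ ⟨h, hh⟩ ⟨a, ha⟩)
    simpa [c, mul_assoc] using this
  refine mem_centralizer_iff.2 fun a ha => ?_
  have h1 : h⁻¹ * a * h ∈ A0 := by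
    simpa using hn h⁻¹ (A.inv_mem hh) a ha
  have h2 : g⁻¹ * (h⁻¹ * a * h) * g ∈ A0 := by
    simpa using hn g⁻¹ (A.inv_mem hg) _ h1
  have h3 := hconj _ h2
  have e1 : h * g * (g⁻¹ * (h⁻¹ * a * h) * g) * g⁻¹ * h⁻¹ = a := by group
  rw [e1] at h3
  calc a * (g * h * g⁻¹ * h⁻¹)
      = g * h * (g⁻¹ * (h⁻¹ * a * h) * g) * h⁻¹ * g⁻¹ * (g * h * g⁻¹ * h⁻¹) := by rw [h3]
    _ = g * h * g⁻¹ * h⁻¹ * a := by group

end CfsgLib.StabLength.Table
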