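import Cfsg.Agent.StabLength.Table.Prelim
import Cfsg.Agent.OddBase.BlockPair
import Cfsg.Agent.OddBase.Prim
import Cfsg.Agent.SolvBase.Frame
import Mathlib.GroupTheory.PGroup

/-!
The three shapes of a completely reducible soluble group: sums, blocks, class two over a field
(S4070, piece D).
-/

set_option autoImplicit false
set_option linter.style.haveILetI false
set_option linter.unusedSectionVars false

universe u

namespace CfsgLib.StabLength.Table

open OddBase Subgroup
open scoped commutatorElement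

variable {V : Type u} [AddCommGroup V] [Finite V] {A : Subgroup (Aut V)}

/-- A group is embedded in the product of its actions on two spanning subgroups. -/
theorem dl_sum {U W : AddSubgroup V} (hU : Inv A U) (hW : Inv A W) (hs : U ⊔ W = ⊤) {t : ℕ}
    (h1 : DL (res A U hU).range t) (h2 : DL (res A W hW).range t) : DL A t := by
  refine DL.of_injective ((res A U hU).rangeRestrict.prod (res A W hW).rangeRestrict) ?_
    (DL.prod h1 h2)
  rw [injective_iff_map_eq_one]
  intro a ha
  have e1 := congrArg (fun p => Subtype.val p.1) ha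
  have e2 := congrArg (fun p => Subtype.val p.2) ha
  exact eq_one_of_res hU hW hs a e1 e2

/-- A reducible completely reducible group splits the space. -/
theorem exists_split {r n : ℕ} (hr : r.Prime) (hV : Nat.card V = r ^ n) (hCR : CR A) (h : ¬ Irr A) :
    ∃ (U W : AddSubgroup V) (_ : Inv A U) (_ : Inv A W), U ⊔ W = ⊤ ∧
      ∃ a b : ℕ, b ≤ a ∧ 1 ≤ b ∧ a + b = n ∧ Nat.card U = r ^ a ∧ Nat.card W = r ^ b := by
  unfold Irr at h
  push Not at h
  obtain ⟨U, hU, hb, ht⟩ := h
  obtain ⟨W, hW, hd, hs⟩ := hCR U hU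
  obtain ⟨a, -, ha⟩ := card_sub hr hV U
  obtain ⟨b, -, hbc⟩ := card_sub hr hV W
  have hbij : Function.Bijective fun p : U × W => (p.1 : V) + p.2 := by
    constructor
    · rintro ⟨x, y⟩ ⟨x', y'⟩ e
      have e' : (x : V) + y = x' + y' := e
      have hm : (x : V) - x' ∈ U ⊓ W := ⟨U.sub_mem x.2 x'.2, by
        rw [show (x : V) - x' = y' - y by rw [sub_eq_sub_iff_add_eq_add, e', add_comm]]
        exact W.sub_mem y'.2 y.2⟩
      rw [hd, AddSubgroup.mem_bot, sub_eq_zero] at hm
      rw [hm] at e'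
      exact Prod.ext (Subtype.ext hm) (Subtype.ext (add_left_cancel e'))
    · intro v
      obtain ⟨x, hx, y, hy, e⟩ := AddSubgroup.mem_sup.mp (show v ∈ U ⊔ W by rw [hs]; trivial)
      exact ⟨(⟨x, hx⟩, ⟨y, hy⟩), e⟩
  have hsum : a + b = n := by
    have := Nat.card_eq_of_bijective _ hbij
    rw [Nat.card_prod, ha, hbc, hV, ← pow_add] at this
    exact Nat.pow_right_injective hr.two_le this
  have ha1 : 1 ≤ a := by
    by_contra h0
    rw [show a = 0 by omega, pow_zero] at ha
    exact hb (AddSubgroup.card_eq_one.mp ha)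
  have hb1 : 1 ≤ b := by
    by_contra h0
    rw [show b = 0 by omega, pow_zero] at hbc
    rw [AddSubgroup.card_eq_one.mp hbc, sup_bot_eq] at hs
    exact ht hs
  rcases le_total b a with hle | hle
  · exact ⟨U, W, hU, hW, hs, a, b, hle, hb1, hsum, ha, hbc⟩
  · exact ⟨W, U, hW, hU, by rw [sup_comm, hs], b, a, hle, ha1, by omega, hbc, ha⟩

/-- A group with a system of blocks. -/
theorem dl_blocks {r n : ℕ} (hr : r.Prime) (hexp : ∀ v : V, r • v = 0) (hV : Nat.card V = r ^ n)
    (hlim : n ≤ lim (key r)) (hsol : Group.IsSolvable A) (hirr : Irr A) (Bk : Blocks A)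
    (ihP : ∀ m ≤ n, PermOK.{u} m) (ihL : ∀ m < n, LinOK.{u} m) :
    ∃ N s : ℕ, 2 ≤ N ∧ 1 ≤ s ∧ N * s = n ∧ (r = 2 → 2 ≤ s) ∧ DL A (Gd N + Bd (key r) s) := by
  classical
  haveI := hsol
  set N := Bk.O.card with hNdef
  have hN : 2 ≤ N := Bk.two
  obtain ⟨s, -, hs⟩ := card_sub hr hV Bk.space
  have hs1 : 1 ≤ s := by
    by_contra h0
    have := Bk.two_le_space
    rw [hs, show s = 0 by omega, pow_zero] at this
    omega
  have hn : N * s = n := by
    have := Bk.card_eq
    rw [hV, hs, ← pow_mul, mul_comm] at this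
    exact (Nat.pow_right_injective hr.two_le this).symm
  have hTle : Bk.stab ≤ A := fun a ha => ha.1
  have hTsol : Group.IsSolvable Bk.stab :=
    Group.isSolvable_of_isSolvable_injective (Subgroup.inclusion_injective hTle)
  have hfix : r = 2 → 2 ≤ s := by
    intro hr2
    by_contra h2
    have hs' : Nat.card Bk.space = 2 := by rw [hs, hr2, show s = 1 by omega, pow_one]
    obtain ⟨y, hy, hy0⟩ : ∃ y ∈ Bk.space, y ≠ 0 := by
      have : Nontrivial Bk.space := Finite.one_lt_card_iff_nontrivial.mp Bk.two_le_space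
      obtain ⟨y, hy⟩ := exists_ne (0 : Bk.space)
      exact ⟨y, y.2, fun e => hy (Subtype.ext e)⟩
    have hstab : ∀ t ∈ Bk.stab, t • y = y := fun t ht => (res_eq_one_iff Bk.inv_space ⟨t, ht⟩).mp
      (eq_one_of_card_le_two hs'.le _) y hy
    set v : V := ∑ i : Bk.O, Bk.rep i • y with hv
    have hinv : ∀ a ∈ A, a • v = v := by
      intro a ha
      rw [hv, Finset.smul_sum]
      refine Fintype.sum_equiv (Bk.perm ⟨a, ha⟩) _ _ fun i => ?_
      have := hstab _ (Bk.key_stab ⟨a, ha⟩ i)
      rwa [mul_smul, mul_smul, inv_smul_eq_iff] at this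
    have hU : Inv A (AddSubgroup.zmultiples v) := by
      intro a ha w hw
      obtain ⟨k, rfl⟩ := AddSubgroup.mem_zmultiples_iff.1 hw
      rw [show a • (k • v) = k • (a • v) from map_zsmul (DistribSMul.toAddMonoidHom V a) k v,
        hinv a ha]
      exact hw
    rcases hirr _ hU with hb | ht
    · have h1 : v = 0 := by
        have := AddSubgroup.mem_zmultiples v
        rwa [hb, AddSubgroup.mem_bot] at this
      have h2 : (Bk.base : AddMonoid.End V) v = Bk.rep Bk.base • y := by
        rw [hv, map_sum, Finset.sum_eq_single Bk.base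
          (fun k _ hk => by rw [Bk.proj_rep _ k hy, if_neg (Ne.symm hk)])
          (fun h => absurd (Finset.mem_univ _) h), Bk.proj_rep _ _ hy, if_pos rfl]
      rw [h1, map_zero] at h2
      exact hy0 (MulAction.injective (Bk.rep Bk.base) (by simp only [← h2, smul_zero]))
    · have h1 : addOrderOf v = r ^ n := by
        rw [← Nat.card_zmultiples, ht, ← hV]
        exact AddSubgroup.card_top
      have h3 : addOrderOf v ∣ 2 := addOrderOf_dvd_of_nsmul_eq_zero (hr2 ▸ hexp v)
      have h4 : 2 ^ 2 ≤ r ^ n := by rw [hr2]; exact Nat.pow_le_pow_right (by norm_num) (by nlinarith)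
      have := Nat.le_of_dvd (by norm_num) h3
      omega
  have hle14 := hlim.trans (lim_le r)
  haveI : MulAction.IsPretransitive Bk.perm.range Bk.O := ⟨fun i j =>
    ⟨⟨Bk.perm ⟨Bk.rep j * (Bk.rep i)⁻¹, A.mul_mem (Bk.rep_mem j) (A.inv_mem (Bk.rep_mem i))⟩, _, rfl⟩,
      Subtype.ext (show cj (Bk.rep j * (Bk.rep i)⁻¹) (i : AddMonoid.End V) = _ by
        conv_lhs => rw [← Bk.cj_rep i, cj_cj, inv_mul_cancel_right, Bk.cj_rep j])⟩⟩
  have hNn : N ≤ n := hn ▸ Nat.le_mul_of_pos_right N hs1
  have hP : DL Bk.perm.range (Gd N) := ihP N hNn Bk.O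
    (by rw [Nat.card_eq_fintype_card, Fintype.card_coe]) (by omega) _ (solvable_range _ hsol)
    inferInstance
  have hslt : s < n := by rw [← hn]; exact lt_mul_of_one_lt_left hs1 (by omega)
  have hR : DL (res Bk.stab Bk.space Bk.inv_space).range (Bd (key r) s) :=
    ihL s hslt Bk.space r hr (exp_sub hexp _) hs (by omega) _ (solvable_range _ hTsol)
      (CR.of_irr (Bk.irr_space hirr))
  have hmem : ∀ (a : Bk.perm.ker) (i : Bk.O),
      (Bk.rep i)⁻¹ * ((a : A) : Aut V) * Bk.rep i ∈ Bk.stab := fun a i => by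
    have := Bk.key_stab a i
    rwa [MonoidHom.mem_ker.1 a.2] at this
  let Φ : Bk.perm.ker →* (Bk.O → (res Bk.stab Bk.space Bk.inv_space).range) :=
    { toFun := fun a i => (res Bk.stab Bk.space Bk.inv_space).rangeRestrict ⟨_, hmem a i⟩
      map_one' := funext fun i => (congrArg _ (show (⟨_, hmem 1 i⟩ : Bk.stab) = 1 from
        Subtype.ext (by simp))).trans (map_one _)
      map_mul' := fun a b => funext fun i => (congrArg _
        (show (⟨_, hmem (a * b) i⟩ : Bk.stab) = ⟨_, hmem a i⟩ * ⟨_, hmem b i⟩ from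
          Subtype.ext (by simp [mul_assoc]))).trans (map_mul _ _ _) }
  have hΦ : Function.Injective Φ := by
    rw [injective_iff_map_eq_one]
    intro a ha
    refine Subtype.ext (Bk.faith a (MonoidHom.mem_ker.1 a.2) fun i y hy => ?_)
    exact (res_eq_one_iff Bk.inv_space ⟨_, hmem a i⟩).mp (congrArg Subtype.val (congrFun ha i)) y hy
  refine ⟨N, s, hN, hs1, hn, hfix, ?_⟩
  exact DL.of_ker Bk.perm.rangeRestrict hP
    (by rw [MonoidHom.ker_rangeRestrict]; exact (DL.pi fun _ => hR).of_injective Φ hΦ)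

/-- Derived length past a term of the derived series. -/
theorem dl_of_derived_le {G : Type*} [Group G] {a b : ℕ} {K : Subgroup G}
    (h : derivedSeries G a ≤ K) (hk : DL K b) : DL G (a + b) := by
  have h2 : DL (derivedSeries G a) b := hk.of_le h
  refine le_bot_iff.mp ((derivedSeries_add_le a b).trans ?_)
  rw [h2, Subgroup.map_bot]

/-- The class two subgroup has derived length two. -/
theorem dl_E (S : Setup (Aut V)) : DL S.E 2 :=
  DL.of_ker (a := 1) (b := 1) (QuotientGroup.mk' (S.A0.subgroupOf S.E))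
    (DL.of_comm fun a b : S.U => mul_comm a b) (by
      rw [QuotientGroup.ker_mk']
      refine DL.of_comm fun a b => Subtype.ext (Subtype.ext ?_)
      exact S.cen _ (S.e_le (S.a0_le (Subgroup.mem_subgroupOf.mp a.2))) _
        (Subgroup.mem_subgroupOf.mp b.2))

/-- `C` is the whole centraliser. -/
abbrev Cent (D : PrimData A) : Prop :=
  D.S.C = A ⊓ Subgroup.centralizer (D.S.A0 : Set (Aut V))

/-- Commutators centralise the cyclic subgroup. -/
theorem commutator_le_C (D : PrimData A) (hC : Cent D) {g h : Aut V} (hg : g ∈ D.S.A) (hh : h ∈ D.S.A) :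
    ⁅g, h⁆ ∈ D.S.C := by
  rw [show D.S.C = _ from hC]
  exact ⟨D.hA ▸ D.S.A.mul_mem (D.S.A.mul_mem (D.S.A.mul_mem hg hh) (D.S.A.inv_mem hg))
    (D.S.A.inv_mem hh), commutator_centralises D.S.a0_norm D.S.cyc hg hh⟩

/-- Deep terms of the derived series lie in the class two subgroup. -/
theorem derived_le_E (D : PrimData A) (hC : Cent D) {t : ℕ} (ht : 1 ≤ t) (h : DL D.S.act.range t)
    {T : Subgroup (Aut V)} (hT : T ≤ A) : (derivedSeries T t).map T.subtype ≤ D.S.E := by
  rintro _ ⟨g, hg, rfl⟩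
  let ι : T →* D.S.A := Subgroup.inclusion (D.hA.symm ▸ hT)
  have h1 : ι g ∈ D.S.act.ker := by
    have h' := map_derivedSeries_le_derivedSeries (D.S.act.rangeRestrict.comp ι) t ⟨g, hg, rfl⟩
    rw [h, Subgroup.mem_bot] at h'
    exact congrArg Subtype.val h'
  have h2 : (g : Aut V) ∈ D.S.C := by
    have h' : derivedSeries T t ≤ D.S.C.subgroupOf T := by
      refine (derivedSeries_antitone T ht).trans ?_
      rw [derivedSeries_one, _root_.commutator_def, Subgroup.commutator_le]
      exact fun x _ y _ => commutator_le_C D hC (ι x).2 (ι y).2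
    exact h' hg
  have h3 : (⟨g, h2⟩ : D.S.C) ∈ D.S.E.subgroupOf D.S.C := by
    rw [← D.S.ker_act_C]
    exact h1
  exact h3

/-- A class two setup over a field with trivial `E/A₀`. -/
theorem dl_of_u_one (D : PrimData A) (hC : Cent D) (hU : Nat.card D.S.U = 1) : DL A 2 := by
  haveI : Subsingleton D.S.U := (Nat.card_eq_one_iff_unique.mp hU).1
  have hEA : ∀ e ∈ D.S.E, e ∈ D.S.A0 := fun e he => by
    have := Subsingleton.elim (QuotientGroup.mk ⟨e, he⟩ : D.S.U) 1
    rwa [QuotientGroup.eq_one_iff, Subgroup.mem_subgroupOf] at this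
  have hC0 : ∀ c ∈ D.S.C, c ∈ D.S.A0 := fun c hc =>
    D.S.dle c hc fun y hy => D.S.cen c hc y (hEA y hy)
  have h1 : derivedSeries A 1 ≤ D.S.C.subgroupOf A := by
    rw [derivedSeries_one, _root_.commutator_def, Subgroup.commutator_le]
    exact fun x _ y _ => commutator_le_C D hC (D.hA.symm ▸ x.2) (D.hA.symm ▸ y.2)
  refine dl_of_derived_le (b := 1) h1 (DL.of_comm fun a b => Subtype.ext (Subtype.ext ?_))
  exact D.S.cen _ (Subgroup.mem_subgroupOf.mp a.2) _ (hC0 _ (Subgroup.mem_subgroupOf.mp b.2))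

/-- The bound through the action on `E/A₀`. -/
theorem dl_of_act (D : PrimData A) (hC : Cent D) {t : ℕ} (ht : 1 ≤ t) (h : DL D.S.act.range t) : DL A (t + 2) := by
  refine dl_of_derived_le (K := D.S.E.subgroupOf A) (fun g hg => ?_) ?_
  · exact derived_le_E D hC ht h le_rfl ⟨g, hg, rfl⟩
  · exact (dl_E D.S).of_injective
      { toFun := fun x => (⟨((x : A) : Aut V), x.2⟩ : D.S.E)
        map_one' := rfl
        map_mul' := fun _ _ => rfl }
      fun a b e => Subtype.ext (Subtype.ext (congrArg (fun z : D.S.E => (z : Aut V)) e))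

/-- The numbers of the field case. -/
theorem field_facts (D : PrimData A) {r n : ℕ} (hr : r.Prime) (hn : 1 ≤ n)
    (hV : Nat.card V = r ^ n) :
    D.p = r ∧ D.f * D.m = n ∧ ∃ e, 1 ≤ e ∧ Nat.card D.S.U = e * e ∧ e ≤ D.m ∧
      ∀ l : ℕ, l.Prime → l ∣ e → l ∣ r ^ D.f - 1 := by
  have h1 : D.p ^ (D.f * D.m) = r ^ n := by rw [pow_mul, ← D.hq, D.hV, hV]
  have hp : D.p = r := by
    refine (Nat.prime_dvd_prime_iff_eq D.hp hr).mp (D.hp.dvd_of_dvd_pow (n := n) ?_)
    rw [← h1]
    exact dvd_pow_self _ (Nat.mul_ne_zero (Nat.one_le_iff_ne_zero.mp D.hf)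
      (Nat.one_le_iff_ne_zero.mp D.hm))
  rw [hp] at h1
  obtain ⟨e, he⟩ := D.S.isSquare_card
  refine ⟨hp, Nat.pow_right_injective hr.two_le h1, e, ?_, he, ?_, fun l hl hd => ?_⟩
  · by_contra h0
    rw [show e = 0 by omega, zero_mul] at he
    exact (Nat.card_pos (α := D.S.U)).ne' he
  · have := D.u_le
    rw [he] at this
    exact Nat.mul_self_le_mul_self_iff.mp this
  · have := (D.S.prime_dvd hl (he ▸ hd.mul_right e)).trans D.a0_dvd
    rwa [D.hq, hp] at this

/-- `E/A₀` of prime power order is elementary. -/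
theorem U_elementary (D : PrimData A) {l i : ℕ} (hl : l.Prime) (hU : Nat.card D.S.U = l ^ i)
    (v : Additive D.S.U) : l • v = 0 := by
  have h1 : Monoid.exponent D.S.U ∣ l ^ i := hU ▸ Group.exponent_dvd_nat_card
  obtain ⟨j, -, hj⟩ := (Nat.dvd_prime_pow hl).1 h1
  have hj1 : j ≤ 1 := by
    by_contra hcon
    have hsq := SolvBase.exponent_squarefree (S := D.S)
    rw [hj, Nat.squarefree_iff_prime_squarefree] at hsq
    exact hsq l hl (by rw [← sq]; exact pow_dvd_pow l (by omega))
  have h2 : Monoid.exponent D.S.U ∣ l := hj ▸ (pow_dvd_pow l hj1).trans (pow_one l).dvd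
  exact Additive.toMul.injective (Monoid.exponent_dvd_iff_forall_pow_eq_one.mp h2 (Additive.toMul v))

/-- The action on `E/A₀` from the table. -/
theorem dl_act (D : PrimData A) (hsol : Group.IsSolvable A) {l i : ℕ} (hl : l.Prime)
    (hU : Nat.card D.S.U = l ^ i) (hi : i ≤ lim (key l))
    (hL : ∀ (W : Type u) [AddCommGroup W] [Finite W], (∀ w : W, l • w = 0) → Nat.card W = l ^ i →
      ∀ B : Subgroup (Aut W), Group.IsSolvable B → CR B → DL B (Bd (key l) i)) :
    DL D.S.act.range (Bd (key l) i) :=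
  hL (Additive D.S.U) (U_elementary D hl hU) ((Nat.card_congr Additive.toMul).trans hU) _
    (solvable_range _ (D.hA.symm ▸ hsol)) D.S.cr_act

end CfsgLib.StabLength.Table
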