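import Cfsg.Agent.StabLength.Table.Perm
import Cfsg.Agent.StabLength.Table.Steps
import Cfsg.Agent.StabLength.Iface

/-!
The table of derived lengths (S4070, piece D).
-/

set_option autoImplicit false
set_option linter.style.haveILetI false
set_option linter.unusedSectionVars false
set_option synthInstance.maxSize 2048

universe u

namespace CfsgLib.StabLength.Table

open OddBase

/-- One entry of the table. -/
def LinAt (r n : ℕ) : Prop :=
  ∀ (W : Type u) [AddCommGroup W] [Finite W], (∀ w : W, r • w = 0) → Nat.card W = r ^ n →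
    n ≤ lim (key r) → ∀ A : Subgroup (Aut W), Group.IsSolvable A → CR A → DL A (Bd (key r) n)

theorem lim_le_key : ∀ k < 3, lim k ≤ 14 := by decide

theorem bd_mono {k a n : ℕ} (hk : k < 3) (hn : n ≤ lim k) (ha : a ≤ n) : Bd k a ≤ Bd k n := by
  have key : ∀ k < 3, ∀ n < 15, ∀ a < 15, n ≤ lim k ∧ a ≤ n → Bd k a ≤ Bd k n := by decide
  have := lim_le_key k hk
  exact key k hk n (by omega) a (by omega) ⟨hn, ha⟩

theorem two_le_bd {k n : ℕ} (hk : k < 3) (hn : n ≤ lim k) (h2 : 2 ≤ n) : 2 ≤ Bd k n := by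
  have key : ∀ k < 3, 2 ≤ Bd k 2 := by decide
  exact (key k hk).trans (bd_mono hk hn h2)

theorem blocks_le {k N s : ℕ} (hk : k < 3) (hN : 2 ≤ N) (hs : 1 ≤ s) (hn : N * s ≤ lim k)
    (h0 : k = 0 → 2 ≤ s) : Gd N + Bd k s ≤ Bd k (N * s) := by
  have key : ∀ k < 3, ∀ N < 15, ∀ s < 15, 2 ≤ N ∧ 1 ≤ s ∧ N * s ≤ lim k ∧ (k = 0 → 2 ≤ s) →
      Gd N + Bd k s ≤ Bd k (N * s) := by decide
  have := lim_le_key k hk
  exact key k hk N (by nlinarith) s (by nlinarith) ⟨hN, hs, hn, h0⟩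

/-- The possible orders of `E/A₀`. -/
theorem field_options {r n e f m : ℕ} (hr : r.Prime) (hlim : n ≤ lim (key r)) (he : 2 ≤ e)
    (hem : e ≤ m) (hf : 1 ≤ f) (hfm : f * m = n)
    (hdvd : ∀ l : ℕ, l.Prime → l ∣ e → l ∣ r ^ f - 1) :
    ∃ l i : ℕ, l.Prime ∧ e * e = l ^ i ∧ i ≤ lim (key l) ∧ 1 ≤ Bd (key l) i ∧
      Bd (key l) i + 2 ≤ Bd (key r) n ∧ i ≤ n ∧ (i = n → l = 2 ∧ r ≠ 2) := by
  have hen : e * f ≤ n := hfm ▸ (mul_comm e f).trans_le (Nat.mul_le_mul_left f hem)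
  have hn14 := hlim.trans (lim_le r)
  have hmn : m ≤ n := hfm ▸ Nat.le_mul_of_pos_left m hf
  have hk2 : key 2 = 0 := rfl
  have hk3 : key 3 = 1 := rfl
  by_cases h2 : r = 2
  · subst h2
    have key2 : ∀ e < 15, ∀ f < 15, 2 ≤ e ∧ 1 ≤ f ∧ e * f ≤ 14 ∧
        (∀ l ∈ [2, 3, 5, 7, 11, 13], l ∣ e → l ∣ 2 ^ f - 1) → e = 3 ∧ 2 ≤ f := by decide
    obtain ⟨rfl, hf2⟩ := key2 e (by omega) f (by nlinarith) ⟨he, hf, by omega, fun l hl hd =>
      hdvd l (by revert hl; simp; rintro (rfl | rfl | rfl | rfl | rfl | rfl) <;> norm_num) hd⟩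
    have key3 : ∀ n < 15, 6 ≤ n → 4 + 2 ≤ Bd 0 n := by decide
    refine ⟨3, 2, Nat.prime_three, by norm_num, by decide, by decide, ?_, by omega, by omega⟩
    exact key3 n (by omega) (by nlinarith)
  by_cases h3 : r = 3
  · subst h3
    have h8 : n ≤ 8 := hlim
    have key2 : ∀ e < 9, ∀ f < 9, 2 ≤ e ∧ 1 ≤ f ∧ e * f ≤ 8 ∧
        (∀ l ∈ [2, 3, 5, 7], l ∣ e → l ∣ 3 ^ f - 1) → e = 2 ∨ e = 4 ∨ e = 8 := by decide
    have key3 : ∀ n < 9, (2 ≤ n → 2 + 2 ≤ Bd 1 n) ∧ (4 ≤ n → 3 + 2 ≤ Bd 1 n) ∧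
        (8 ≤ n → 6 + 2 ≤ Bd 1 n) := by decide
    obtain ⟨k1, k2, k3⟩ := key3 n (by omega)
    rcases key2 e (by omega) f (by nlinarith) ⟨he, hf, by omega, fun l hl hd =>
      hdvd l (by revert hl; simp; rintro (rfl | rfl | rfl | rfl) <;> norm_num) hd⟩ with
      rfl | rfl | rfl
    · exact ⟨2, 2, Nat.prime_two, by norm_num, by decide, by decide, k1 (by omega), by omega,
        fun _ => ⟨rfl, by norm_num⟩⟩
    · exact ⟨2, 4, Nat.prime_two, by norm_num, by decide, by decide, k2 (by omega), by omega,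
        fun _ => ⟨rfl, by norm_num⟩⟩
    · exact ⟨2, 6, Nat.prime_two, by norm_num, by decide, by decide, k3 (by omega), by omega,
        fun _ => ⟨rfl, by norm_num⟩⟩
  have hk : key r = 2 := by simp [key, h2, h3]
  rw [hk] at hlim ⊢
  have h4 : n ≤ 4 := hlim
  have key3 : ∀ n < 5, (2 ≤ n → 2 + 2 ≤ Bd 2 n) ∧ (3 ≤ n → 4 + 2 ≤ Bd 2 n) ∧
      (4 ≤ n → 3 + 2 ≤ Bd 2 n) := by decide
  obtain ⟨k1, k2, k3⟩ := key3 n (by omega)
  have he4 : e ≤ 4 := by omega
  interval_cases e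
  · exact ⟨2, 2, Nat.prime_two, by norm_num, by decide, by decide, k1 (by omega), by omega,
      fun _ => ⟨rfl, h2⟩⟩
  · exact ⟨3, 2, Nat.prime_three, by norm_num, by decide, by decide, k2 (by omega), by omega,
      fun h => by omega⟩
  · exact ⟨2, 4, Nat.prime_two, by norm_num, by decide, by decide, k3 (by omega), by omega,
      fun _ => ⟨rfl, h2⟩⟩

/-- One step of the linear table. -/
theorem linAt_step {r n : ℕ} (hr : r.Prime) (ihP : ∀ m ≤ n, PermOK.{u} m)
    (ihL : ∀ m < n, LinOK.{u} m) (ih2 : r ≠ 2 → LinAt.{u} 2 n) : LinAt.{u} r n := by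
  intro W _ _ hexp hV hlim A hsol hCR
  have hk := key_cases r
  rcases Nat.lt_or_ge n 2 with hn | hn
  · interval_cases n
    · rw [pow_zero] at hV
      haveI : Subsingleton A := ⟨fun a b => Subtype.ext ((eq_one_of_card_le_two (by omega) _).trans
        (eq_one_of_card_le_two (by omega) _).symm)⟩
      exact DL.of_subsingleton _
    · rw [pow_one] at hV
      by_cases h2 : r = 2
      · haveI : Subsingleton A := ⟨fun a b => Subtype.ext ((eq_one_of_card_le_two (by omega) _).trans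
          (eq_one_of_card_le_two (by omega) _).symm)⟩
        exact DL.of_subsingleton _
      · have h1 : Bd (key r) 1 = 1 := by
          by_cases h3 : r = 3 <;> simp [key, h2, h3, Bd]
        rw [h1]
        exact DL.of_comm fun a b => Subtype.ext (comm_of_card_prime hr hV _ _)
  haveI : Nontrivial W := Finite.one_lt_card_iff_nontrivial.mp
    (hV ▸ Nat.one_lt_pow (by omega) hr.one_lt)
  by_cases hirr : Irr A
  swap
  · obtain ⟨U, X, hU, hX, hs, a, b, hba, hb, hab, hca, hcb⟩ := exists_split hr hV hCR hirr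
    refine dl_sum hU hX hs ?_ ?_
    · exact (ihL a (by omega) U r hr (exp_sub hexp U) hca (by omega) _ (solvable_range _ hsol)
        (hCR.res hU)).mono (bd_mono hk hlim (by omega))
    · exact (ihL b (by omega) X r hr (exp_sub hexp X) hcb (by omega) _ (solvable_range _ hsol)
        (hCR.res hX)).mono (bd_mono hk hlim (by omega))
  by_cases hBk : Nonempty (Blocks A)
  · obtain ⟨Bk⟩ := hBk
    obtain ⟨N, s, hN, hs, rfl, h2, hDL⟩ := dl_blocks hr hexp hV hlim hsol hirr Bk ihP ihL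
    refine hDL.mono (blocks_le hk hN hs hlim fun h0 => h2 ?_)
    by_contra hne
    unfold key at h0
    split_ifs at h0
  have hfield : AllFields A := fun B hB hBc => (blocks_or_field hirr hB hBc).resolve_left hBk
  obtain ⟨D, hC⟩ := exists_primData_cent hsol hfield
  obtain ⟨-, hfm, e, he1, hU, hem, hdvd⟩ := field_facts D hr (by omega) hV
  by_cases he : e = 1
  · rw [he] at hU
    exact (dl_of_u_one D hC hU).mono (two_le_bd hk hlim hn)
  obtain ⟨l, i, hl, hei, hil, hb1, hb2, hin, hcase⟩ :=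
    field_options hr hlim (by omega) hem D.hf hfm hdvd
  refine (dl_of_act D hC hb1 (dl_act D hsol hl (hU.trans hei) hil ?_)).mono hb2
  intro X _ _ hexpX hX B hB hBCR
  rcases Nat.lt_or_ge i n with h | h
  · exact ihL i h X l hl hexpX hX hil B hB hBCR
  · obtain rfl : i = n := by omega
    obtain ⟨rfl, hr2⟩ := hcase rfl
    exact ih2 hr2 X hexpX hX hil B hB hBCR

/-- Both tables. -/
theorem tables (n : ℕ) : PermOK.{u} n ∧ LinOK.{u} n := by
  induction n using Nat.strong_induction_on with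
  | _ n ih =>
    have hP : PermOK.{u} n := permOK_step n (fun m hm => (ih m hm).1) fun m hm => (ih m hm).2
    have hP' : ∀ m ≤ n, PermOK.{u} m := fun m hm => by
      rcases hm.eq_or_lt with rfl | h
      · exact hP
      · exact (ih m h).1
    have h2 : LinAt.{u} 2 n := linAt_step Nat.prime_two hP' (fun m hm => (ih m hm).2)
      fun h => absurd rfl h
    exact ⟨hP, fun W _ _ r hr hexp hV hlim A hA hCR =>
      linAt_step hr hP' (fun m hm => (ih m hm).2) (fun _ => h2) W hexp hV hlim A hA hCR⟩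

theorem linOK (n : ℕ) : LinOK.{u} n := (tables n).2

/-- The bounds that S4070 uses. -/
theorem tableBound : TableBound.{u} := by
  intro W _ _ r n hr hexp hV A hA hCR
  have h := fun hlim => linOK n W r hr hexp hV hlim A hA hCR
  have k2 : (∀ m < 5, Bd 0 m ≤ 3) ∧ (∀ m < 9, Bd 0 m ≤ 6) ∧ (∀ m < 15, Bd 0 m ≤ 7) ∧
      (∀ m < 5, Bd 1 m ≤ 5) ∧ (∀ m < 9, Bd 1 m ≤ 8) := by decide
  have k3 : ∀ k < 3, (∀ m < 3, m ≤ lim k ∧ Bd k m ≤ 4) ∧ ∀ m < 5, m ≤ lim k ∧ Bd k m ≤ 6 := by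
    decide
  obtain ⟨a1, a2, a3, a4, a5⟩ := k2
  obtain ⟨b1, b2⟩ := k3 _ (key_cases r)
  refine ⟨?_, ?_, ?_, ?_, ?_, fun hn => (h (b1 n (by omega)).1).mono (b1 n (by omega)).2,
    fun hn => (h (b2 n (by omega)).1).mono (b2 n (by omega)).2⟩
  · rintro rfl hn; exact (h (show n ≤ 14 by omega)).mono (a1 n (by omega))
  · rintro rfl hn; exact (h (show n ≤ 14 by omega)).mono (a2 n (by omega))
  · rintro rfl hn; exact (h (show n ≤ 14 by omega)).mono (a3 n (by omega))
  · rintro rfl hn; exact (h (show n ≤ 8 by omega)).mono (a4 n (by omega))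
  · rintro rfl hn; exact (h (show n ≤ 8 by omega)).mono (a5 n (by omega))

end CfsgLib.StabLength.Table
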